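import Mathlib
import Cfsg.Agent.SL2.Elements

set_option autoImplicit false

/-!
The number of conjugacy classes of `SL₂` over a finite field.
-/

namespace CfsgLib.Sl2Classes

open CfsgLib.SL2

variable {F : Type*} [Field F] [Fintype F]

local notation "G" => Matrix.SpecialLinearGroup (Fin 2) F

lemma isSquare_mul_of_not {a b : F} (ha : ¬ IsSquare a) (hb : ¬ IsSquare b) : IsSquare (a * b) := by
  classical
  have ha0 : a ≠ 0 := fun h => ha (h ▸ IsSquare.zero)
  have hb0 : b ≠ 0 := fun h => hb (h ▸ IsSquare.zero)
  rw [← quadraticChar_one_iff_isSquare (mul_ne_zero ha0 hb0), map_mul,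
    quadraticChar_neg_one_iff_not_isSquare.mpr ha, quadraticChar_neg_one_iff_not_isSquare.mpr hb]
  rfl

lemma tr_comp (t : F) : tr (comp t : G) = t := by
  simp [tr, comp]

lemma tr_u (s : F) : tr (u s : G) = 2 := by
  simp [tr]; ring

lemma tr_neg (g : G) : tr (-g : G) = -tr g := by
  simp [tr]; ring

/-- Class count in characteristic two. -/
theorem card_conjClasses_even [CharP F 2] :
    Nat.card (ConjClasses G) = Fintype.card F + 1 := by
  classical
  have h2 : (2 : F) = 0 := CharTwo.two_eq_zero
  have hsq : ∀ t : F, t ≠ 0 → t ^ 2 ≠ 4 := fun t ht h => ht (pow_eq_zero_iff two_ne_zero |>.mp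
    (by linear_combination h + 2 * h2))
  let Φ : Option F → ConjClasses G := fun o =>
    o.elim (ConjClasses.mk 1) (fun t => if t = 0 then ConjClasses.mk (u 1) else ConjClasses.mk (comp t))
  have hne : ∀ t : F, Φ (some t) ≠ Φ none := by
    intro t h
    simp only [Φ, Option.elim_some, Option.elim_none] at h
    split_ifs at h with ht <;> rw [ConjClasses.mk_eq_mk_iff_isConj, isConj_comm, isConj_one_right] at h
    · exact one_ne_zero (u_injective (h.trans (u_zero (F := F)).symm))
    · exact comp_not_mem_center t (h ▸ one_mem _)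
  have htr : ∀ t : F, ∀ g : G, Φ (some t) = ConjClasses.mk g → tr g = t := by
    intro t g h
    simp only [Φ, Option.elim_some] at h
    split_ifs at h with ht <;> rw [ConjClasses.mk_eq_mk_iff_isConj] at h <;>
      rw [← tr_eq_of_isConj h]
    · rw [tr_u, h2, ht]
    · exact tr_comp t
  have hbij : Function.Bijective Φ := by
    constructor
    · rintro (_ | a) (_ | b) h
      · rfl
      · exact absurd h.symm (hne b)
      · exact absurd h (hne a)
      · obtain ⟨g, hg⟩ := ConjClasses.exists_rep (Φ (some a))
        rw [← htr a g hg.symm, htr b g (h.symm.trans hg.symm)]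
    · intro C
      obtain ⟨g, rfl⟩ := ConjClasses.exists_rep C
      by_cases ht : tr g = 0
      · by_cases hg : g = 1
        · exact ⟨none, by simp [Φ, hg]⟩
        · obtain ⟨s, hs, hc⟩ := exists_isConj_u hg (by rw [ht, h2])
          refine ⟨some 0, ?_⟩
          simp only [Φ, Option.elim_some, if_true]
          rw [ConjClasses.mk_eq_mk_iff_isConj]
          refine IsConj.trans ?_ hc.symm
          rw [u_eq_upperU, u_eq_upperU, CfsgLib.Psl2Unipotent.isConj_upperU_iff one_ne_zero hs]
          exact FiniteField.isSquare_of_char_two (ringChar.eq F 2) _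
      · refine ⟨some (tr g), ?_⟩
        simp only [Φ, Option.elim_some, if_neg ht]
        rw [ConjClasses.mk_eq_mk_iff_isConj]
        exact isConj_of_tr_eq (by rw [tr_comp]; exact hsq _ ht) (tr_comp _)
  rw [← Nat.card_congr (Equiv.ofBijective Φ hbij), Finite.card_option, Nat.card_eq_fintype_card]

/-- Class count in odd characteristic. -/
theorem card_conjClasses_odd (hodd : Odd (Fintype.card F)) :
    Nat.card (ConjClasses G) = Fintype.card F + 4 := by
  classical
  have h2 : (2 : F) ≠ 0 := two_ne_zero_iff_odd.mpr hodd
  have h22 : (2 : F) ≠ -2 := fun h => by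
    have h4 : (2 : F) * 2 = 0 := by linear_combination h
    exact h2 ((mul_self_eq_zero).mp h4)
  obtain ⟨ν, hν⟩ := FiniteField.exists_nonsquare (F := F) (fun h => h2 (by
    have := ringChar.Nat.cast_ringChar (R := F)
    rw [h] at this; exact_mod_cast this))
  let r : Fin 3 → G := ![1, u 1, u ν]
  let z : Fin 2 → G := ![1, -1]
  let c : Fin 2 → F := ![2, -2]
  have hc : ∀ e, c e ^ 2 = 4 := by intro e; fin_cases e <;> simp [c] <;> ring
  have hν0 : ν ≠ 0 := fun h => hν (h ▸ IsSquare.zero)
  have htr : ∀ e k, tr (z e * r k) = c e := by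
    intro e k
    fin_cases e <;> fin_cases k <;> simp [z, r, c, tr_neg, tr_u]
  let Φ : {t : F // t ^ 2 ≠ 4} ⊕ Fin 2 × Fin 3 → ConjClasses G :=
    Sum.elim (fun t => ConjClasses.mk (comp t.1)) (fun x => ConjClasses.mk (z x.1 * r x.2))
  have hzc : ∀ (e : Fin 2) (g : G), z e * g = g * z e := by
    intro e g; fin_cases e <;> simp [z]
  have hrr : ∀ k l : Fin 3, IsConj (r k) (r l) → k = l := by
    have h1 : ∀ s : F, s ≠ 0 → ¬ IsConj (1 : G) (u s) := fun s hs h => by
      rw [isConj_one_right] at h
      exact hs (u_injective (h.trans (u_zero (F := F)).symm))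
    have h3 : ¬ IsConj (u 1 : G) (u ν) := by
      rw [u_eq_upperU, u_eq_upperU, CfsgLib.Psl2Unipotent.isConj_upperU_iff one_ne_zero hν0,
        one_mul]
      exact hν
    intro k l h
    fin_cases k <;> fin_cases l <;>
      first
        | rfl
        | exact absurd h (h1 1 one_ne_zero)
        | exact absurd h (h1 ν hν0)
        | exact absurd h.symm (h1 1 one_ne_zero)
        | exact absurd h.symm (h1 ν hν0)
        | exact absurd h h3
        | exact absurd h.symm h3
  have hbij : Function.Bijective Φ := by
    constructor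
    · rintro (⟨t, ht⟩ | ⟨e, k⟩) (⟨s, hs⟩ | ⟨f, l⟩) h <;>
        simp only [Φ, Sum.elim_inl, Sum.elim_inr, ConjClasses.mk_eq_mk_iff_isConj] at h <;>
        have h' := tr_eq_of_isConj h <;> simp only [tr_comp, htr] at h'
      · simp [h']
      · exact absurd (h' ▸ hc f) ht
      · exact absurd (h' ▸ hc e) hs
      · have hef : e = f := by
          fin_cases e <;> fin_cases f <;>
            first
              | rfl
              | exact absurd h' h22
              | exact absurd h'.symm h22
        subst hef
        obtain ⟨x, hx⟩ := isConj_iff.mp h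
        have : x * r k * x⁻¹ = r l := by
          have e1 : x * (z e * r k) * x⁻¹ = z e * (x * r k * x⁻¹) := by
            rw [← mul_assoc x, ← hzc e x]; simp only [mul_assoc]
          exact mul_left_cancel (e1.symm.trans hx)
        rw [hrr k l (isConj_iff.mpr ⟨x, this⟩)]
    · intro C
      obtain ⟨g, rfl⟩ := ConjClasses.exists_rep C
      by_cases ht : tr g ^ 2 = 4
      · have hcase : tr g = 2 ∨ tr g = -2 := by
          rcases mul_eq_zero.mp (show (tr g - 2) * (tr g + 2) = 0 by linear_combination ht)
            with h | h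
          · exact Or.inl (sub_eq_zero.mp h)
          · exact Or.inr (eq_neg_of_add_eq_zero_left h)
        have key : ∀ y : G, tr y = 2 → ∃ k, IsConj (r k) y := by
          intro y hy
          by_cases hy1 : y = 1
          · exact ⟨0, by simp [r, hy1]⟩
          · obtain ⟨s, hs, hcs⟩ := exists_isConj_u hy1 hy
            by_cases hsq : IsSquare s
            · refine ⟨1, IsConj.trans ?_ hcs.symm⟩
              simp only [r, Matrix.cons_val_one, Matrix.cons_val_zero]
              rw [u_eq_upperU, u_eq_upperU,
                CfsgLib.Psl2Unipotent.isConj_upperU_iff one_ne_zero hs, one_mul]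
              exact hsq
            · refine ⟨2, IsConj.trans ?_ hcs.symm⟩
              simp only [r, Matrix.cons_val]
              rw [u_eq_upperU, u_eq_upperU, CfsgLib.Psl2Unipotent.isConj_upperU_iff hν0 hs]
              exact isSquare_mul_of_not hν hsq
        rcases hcase with h | h
        · obtain ⟨k, hk⟩ := key g h
          exact ⟨Sum.inr (0, k), by simpa [Φ, z, ConjClasses.mk_eq_mk_iff_isConj] using hk⟩
        · obtain ⟨k, hk⟩ := key (-g) (by rw [tr_neg, h, neg_neg])
          refine ⟨Sum.inr (1, k), ?_⟩
          simp only [Φ, Sum.elim_inr, ConjClasses.mk_eq_mk_iff_isConj]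
          obtain ⟨x, hx⟩ := isConj_iff.mp hk
          exact isConj_iff.mpr ⟨x, by simp [z, hx]⟩
      · refine ⟨Sum.inl ⟨tr g, ht⟩, ?_⟩
        simp only [Φ, Sum.elim_inl, ConjClasses.mk_eq_mk_iff_isConj]
        exact isConj_of_tr_eq (by rw [tr_comp]; exact ht) (tr_comp _)
  have hcard : Fintype.card {t : F // t ^ 2 ≠ 4} = Fintype.card F - 2 := by
    rw [Fintype.card_subtype_compl]
    congr 1
    rw [Fintype.card_subtype]
    have : (Finset.univ.filter fun t : F => t ^ 2 = 4) = {2, -2} := by
      ext t
      simp only [Finset.mem_filter, Finset.mem_univ, true_and, Finset.mem_insert,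
        Finset.mem_singleton]
      constructor
      · intro h
        rcases mul_eq_zero.mp (show (t - 2) * (t + 2) = 0 by linear_combination h) with h | h
        · exact Or.inl (sub_eq_zero.mp h)
        · exact Or.inr (eq_neg_of_add_eq_zero_left h)
      · rintro (rfl | rfl) <;> ring
    rw [this, Finset.card_pair h22]
  rw [← Nat.card_congr (Equiv.ofBijective Φ hbij), Nat.card_sum, Nat.card_prod,
    Nat.card_eq_fintype_card, hcard]
  simp
  have := Fintype.one_lt_card (α := F)
  omega

end CfsgLib.Sl2Classes
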